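/-
Involutions of ²F₄(q) are conjugate to representatives of three elements of the dihedral Weyl group.

* `exists_monomial` : every involution is conjugate to `h * nd d`, `d` the central involution `w₀` or `w₀ gen i`;
* `exists_conj_nd`  : every involution is conjugate to such an `nd d`.
-/
import Cfsg.Agent.Lib.Twisted.F4Facts
import Cfsg.Agent.Lib.ChevCentralizer.Classify

set_option autoImplicit false
set_option maxRecDepth 100000
set_option linter.unusedSectionVars false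
set_option synthInstance.maxSize 4000
set_option backward.isDefEq.respectTransparency false
set_option maxHeartbeats 1000000

namespace Cfsg.Agent.ReeInvol

open Cfsg.Lie Cfsg.Lie.ChevalleyDatum Cfsg.Agent.Chev Cfsg.Agent.ChevBN
open Cfsg.Agent.Twisted Cfsg.Agent.Twisted.F4

/-- The action of an element of the dihedral group on classes. -/
def act (d : DihedralGroup 8) (j : Fin 16) : Fin 16 := (wd d).foldr wcl j

/-- The number of positive classes made negative. -/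
def cnt (d : DihedralGroup 8) : ℕ :=
  ((List.finRange 16).filter fun j => decide (j.val < 8 ∧ ¬ (act d j).val < 8)).length

/-- The central involution. -/
def w0 : DihedralGroup 8 := DihedralGroup.r 4

theorem cnt_le : ∀ d, cnt d ≤ 8 := by decide +kernel

theorem w0_neg : ∀ j : Fin 16, j.val < 8 → ¬ (act w0 j).val < 8 := by decide +kernel

theorem w0_gen_act : ∀ i : Fin 2, act (w0 * gen i) (sc i) = sc i ∧
    ∀ j : Fin 16, j.val < 8 → j ≠ sc i → ¬ (act (w0 * gen i) j).val < 8 := by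
  decide +kernel

theorem w0_gen_roots : ∀ i : Fin 2, ∀ r ∈ cls (sc i).val ++ cls (sc i + 8).val,
    wwN chevF4 (ew (wd (w0 * gen i))) r = r := by
  decide +kernel

theorem w0_gen_simple : ∀ i : Fin 2, ∀ j ∈ W i,
    chevF4.simple j.val ∈ cls (sc i).val ++ cls (sc i + 8).val ∧
      chevF4.neg (chevF4.simple j.val) ∈ cls (sc i).val ++ cls (sc i + 8).val := by
  decide +kernel

theorem cases_d : ∀ d : DihedralGroup 8, d * d = 1 → d ≠ 1 →
    (∃ i : Fin 2, (act d (sc i)).val < 8 ∧ act d (sc i) ≠ sc i ∧ cnt d < cnt (gen i * d * gen i)) ∨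
      d = w0 ∨ ∃ i : Fin 2, d = w0 * gen i := by
  decide +kernel

theorem cnt_one : cnt 1 = 0 := by decide +kernel

theorem cnt_gen : ∀ i : Fin 2, 0 < cnt (gen i) ∧ cnt (w0 * gen i) < cnt (gen i * (w0 * gen i)) := by
  decide +kernel

theorem gen_sq : ∀ i : Fin 2, gen i * gen i = 1 := by decide +kernel

theorem full_neg : ∀ j : Fin 16, j.val < 8 →
    ¬ (([0, 1, 0, 1, 0, 1, 0, 1] : List (Fin 2)).foldr wcl j).val < 8 := by
  decide +kernel

variable {K : Type*} [Field K] [CharP K 2] [Fintype K] {m : ℕ} (hK : Fintype.card K = 2 ^ (2 * m + 1))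
include hK

theorem n_eq (i : Fin 2) : (rgdF4' hK (m := m)).n i = nd hK (m := m) (gen i) := by
  have h := nw'_eq_nd hK (m := m) [i]
  rw [RGD.RootData.nw_cons, RGD.RootData.nw_nil, mul_one] at h
  simpa using h

theorem conj_span_neg {d : DihedralGroup 8} {A : Set (Fin 16)} (hA : ∀ j ∈ A, ¬ (act d j).val < 8)
    {h : GL chevF4.Idx K} (hh : h ∈ (rgdF4' hK (m := m)).H) {x : GL chevF4.Idx K}
    (hx : x ∈ (rgdF4' hK (m := m)).span A) :
    h * nd hK (m := m) d * x * (h * nd hK (m := m) d)⁻¹ ∈ (rgdF4' hK (m := m)).Vneg := by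
  set R := rgdF4' hK (m := m)
  exact R.span_conj (fun j hj y hy => R.U_le_span (A := {s | ¬ R.pos s}) (hA j hj)
    (R.conj_U_mem (R.map_conj_H_nw hh (wd d) j) hy)) x hx

/-- The square of a monomial involution part. -/
theorem dd_eq_one {t u h : GL chevF4.Idx K} {d : DihedralGroup 8} (ht : t * t = 1)
    (hu : u ∈ (rgdF4' hK (m := m)).Upos) (hh : h ∈ (rgdF4' hK (m := m)).H)
    (et : t = u * (h * nd hK (m := m) d)) :
    h * nd hK (m := m) d * (h * nd hK (m := m) d) ∈ (rgdF4' hK (m := m)).H ∧ d * d = 1 := by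
  set R := rgdF4' hK (m := m)
  set n := h * nd hK (m := m) d with hn
  have hnN : n ∈ R.N := mul_mem (R.H_le_N hh) (nd_mem_N hK d)
  have e : u * n * u = (1 : GL chevF4.Idx K) * n⁻¹ * 1 := by
    have h1 : u * n * (u * n) = 1 := by rw [← et]; exact ht
    calc u * n * u = u * n * (u * n) * n⁻¹ := by group
      _ = _ := by rw [h1]; group
  have h2 := R.mem_H_of_eq hnN (inv_mem hnN) (R.Upos_le_B hu) (R.Upos_le_B hu) (one_mem _) (one_mem _) e
  have h3 := inv_mem h2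
  rw [_root_.mul_inv_rev, inv_inv] at h3
  refine ⟨h3, ?_⟩
  have h4 : h * (nd hK (m := m) d * h * (nd hK (m := m) d)⁻¹) ∈ R.H :=
    mul_mem hh (R.nw_conj_H (wd d) hh)
  refine nd_sep hK (mul_mem (inv_mem h4) h3) ?_
  rw [nd_one, mul_one, hn, ← nd_mul hK]
  group

/-- The torus has odd exponent. -/
theorem H_pow {h : GL chevF4.Idx K} (hh : h ∈ (rgdF4' hK (m := m)).H) : h ^ (Fintype.card K - 1) = 1 :=
  ChevInvolution.diag_pow DataF4.good hh.1

theorem H_inv_one {h : GL chevF4.Idx K} (hh : h ∈ (rgdF4' hK (m := m)).H) (h2 : h * h = 1) : h = 1 := by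
  have e : Fintype.card K - 1 = 2 * (2 ^ (2 * m) - 1) + 1 := by
    have := Nat.two_pow_pos (2 * m)
    rw [hK, pow_succ]
    omega
  have h1 := H_pow hK hh
  rwa [e, pow_succ, pow_mul, sq, h2, one_pow, one_mul] at h1

/-- A monomial involution of type `w₀ gen i` commutes with the root elements of the classes of `±sc i`. -/
theorem commute_class {i : Fin 2} {h : GL chevF4.Idx K} (hh : h ∈ (rgdF4' hK (m := m)).H)
    (hsq : h * nd hK (m := m) (w0 * gen i) * (h * nd hK (m := m) (w0 * gen i)) = 1) :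
    (∀ r ∈ cls (sc i).val ++ cls (sc i + 8).val, r < chevF4.nroots → ∀ t : K,
      Commute (h * nd hK (m := m) (w0 * gen i)) (xF K r t)) ∧
    (∀ j, (j = sc i ∨ j = sc i + 8) → ∀ x ∈ X K m j, Commute (h * nd hK (m := m) (w0 * gen i)) x) ∧
    Commute (h * nd hK (m := m) (w0 * gen i)) ((rgdF4' hK (m := m)).n i) := by
  have e : nd hK (m := m) (w0 * gen i) = (RF K).nw (ew (wd (w0 * gen i))) := nw'_eq hK _
  rw [e] at hsq ⊢
  have key : ∀ r ∈ cls (sc i).val ++ cls (sc i + 8).val, r < chevF4.nroots → ∀ t : K,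
      Commute (h * (RF K).nw (ew (wd (w0 * gen i)))) (xF K r t) := fun r hr hlt t =>
    ChevInvolution.commute_fixed DataF4.good rootsF4 hh.1 hsq (q := ⟨r, hlt⟩)
      (Fin.ext ((chev_ww DataF4.good rootsF4 K _ _).trans (w0_gen_roots i r hr))) t
  refine ⟨key, ?_, ?_⟩
  · intro j hj x hx
    set n := h * (RF K).nw (ew (wd (w0 * gen i)))
    have hle : spF K (cls j.val) ≤ Subgroup.centralizer ({n} : Set (GL chevF4.Idx K)) := by
      refine sp_le DataF4.good rootsF4 fun r hr hlt t => Subgroup.mem_centralizer_singleton_iff.2 ?_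
      refine (key r ?_ hlt t).eq.symm
      rcases hj with rfl | rfl
      · exact List.mem_append_left _ hr
      · exact List.mem_append_right _ hr
    exact (Subgroup.mem_centralizer_singleton_iff.1 (hle (Subgroup.mem_inf.1 hx).1)).symm
  · show Commute _ ((RF K).nw (W i))
    have : ∀ l : List (Fin chevF4.rank), (∀ j ∈ l, j ∈ W i) →
        Commute (h * (RF K).nw (ew (wd (w0 * gen i)))) ((RF K).nw l) := by
      intro l hl
      induction l with
      | nil => exact Commute.one_right _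
      | cons j l ih =>
        rw [RGD.RootData.nw_cons]
        refine Commute.mul_right ?_ (ih fun k hk => hl k (List.mem_cons_of_mem _ hk))
        obtain ⟨h1, h2⟩ := w0_gen_simple i j (hl j List.mem_cons_self)
        have hlt := DataF4.good.simple_lt j.val j.isLt
        exact ((key _ h1 hlt _).mul_right (key _ h2 (DataF4.good.neg_lt _ hlt) _)).mul_right (key _ h1 hlt _)
    exact this _ fun _ hj => hj

/-- The result of the reduction. -/
def Reduced (t : GL chevF4.Idx K) : Prop :=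
  ∃ c ∈ (rgdF4' hK (m := m)).G, ∃ h ∈ (rgdF4' hK (m := m)).H, ∃ d : DihedralGroup 8,
    (d = w0 ∨ ∃ i : Fin 2, d = w0 * gen i) ∧
    c * t * c⁻¹ = h * nd hK (m := m) d ∧ h * nd hK (m := m) d * (h * nd hK (m := m) d) = 1

theorem reduced_aux (k : ℕ) : ∀ (t u h : GL chevF4.Idx K) (d : DihedralGroup 8), t * t = 1 → t ≠ 1 →
    u ∈ (rgdF4' hK (m := m)).Upos → h ∈ (rgdF4' hK (m := m)).H → t = u * (h * nd hK (m := m) d) →
    8 - cnt d = k → Reduced hK (m := m) t := by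
  induction k using Nat.strong_induction_on with
  | _ k ih =>
  intro t u h d htt ht1 hu hh et hk
  set R := rgdF4' hK (m := m) with hR
  set n := h * nd hK (m := m) d with hn
  obtain ⟨hnn, hd2⟩ := dd_eq_one hK htt hu hh et
  rw [← hn] at hnn
  have step : ∀ (c t' u' h' : GL chevF4.Idx K) (d' : DihedralGroup 8), c ∈ R.G → t' = c * t * c⁻¹ →
      u' ∈ R.Upos → h' ∈ R.H → t' = u' * (h' * nd hK (m := m) d') → cnt d < cnt d' →
      Reduced hK (m := m) t := by
    intro c t' u' h' d' hc e1 hu' hh' e2 hlt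
    have hb := cnt_le d'
    obtain ⟨c', hc', h'', hh'', d'', hd'', e3, e4⟩ := ih (8 - cnt d') (by omega) t' u' h' d'
      (by rw [e1, show c * t * c⁻¹ * (c * t * c⁻¹) = c * (t * t) * c⁻¹ by group, htt]; group)
      (fun e => ht1 (conj_eq_one_iff.1 (e1 ▸ e))) hu' hh' e2 rfl
    refine ⟨c' * c, mul_mem hc' hc, h'', hh'', d'', hd'', ?_, e4⟩
    rw [← e3, e1]
    group
  have hUG : ∀ {x : GL chevF4.Idx K}, x ∈ R.Upos → x ∈ R.G := fun hx => R.B_le_G (R.Upos_le_B hx)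
  have hnmu : n * u * n⁻¹ = u⁻¹ * (n * n)⁻¹ := by
    have h1 : u * n * (u * n) = 1 := by rw [← et]; exact htt
    calc n * u * n⁻¹ = u⁻¹ * (u * n * (u * n)) * (n * n)⁻¹ := by group
      _ = _ := by rw [h1, mul_one]
  have hnuB : n * u * n⁻¹ ∈ R.B :=
    hnmu ▸ mul_mem (inv_mem (R.Upos_le_B hu)) (R.H_le_B (inv_mem hnn))
  have hUH : ∀ {x : GL chevF4.Idx K}, x ∈ R.Upos → x ∈ R.H → x = 1 := fun h1 h2 =>
    Subgroup.mem_bot.1 (R.U_inf_H ▸ Subgroup.mem_inf.2 ⟨h1, h2⟩)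
  have hBV : ∀ {x : GL chevF4.Idx K}, x ∈ R.B → x ∈ R.Vneg → x = 1 := fun h1 h2 =>
    Subgroup.mem_bot.1 (R.B_inf_V ▸ Subgroup.mem_inf.2 ⟨h1, h2⟩)
  by_cases hd1 : d = 1
  · subst hd1
    rw [nd_one hK, mul_one] at hn
    have h2 : h = 1 := by
      refine H_inv_one hK hh (hUH ?_ (hn ▸ hnn))
      have e : n * n = (n * u * n⁻¹)⁻¹ * u⁻¹ := by
        rw [hnmu, _root_.mul_inv_rev, inv_inv, inv_inv, mul_inv_cancel_right]
      rw [← hn, e]
      exact mul_mem (inv_mem (hn ▸ R.H_conj_span _ hh _ hu)) (inv_mem hu)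
    have hn1 : n = 1 := by rw [hn, h2]
    rw [hn1, mul_one] at et
    obtain rfl : u = t := et.symm
    -- some conjugate by a Weyl word has a fundamental coordinate
    have key : ∀ l : List (Fin 2),
        (∃ a ∈ R.G, a * u * a⁻¹ ∈ R.Upos ∧ ∃ i, a * u * a⁻¹ ∉ R.Udel i) ∨
          R.nw l * u * (R.nw l)⁻¹ ∈ R.Upos := by
      intro l
      induction l with
      | nil => exact Or.inr (by simpa using hu)
      | cons i l ihl =>
        refine ihl.elim Or.inl fun hl => ?_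
        by_cases hi : R.nw l * u * (R.nw l)⁻¹ ∈ R.Udel i
        · refine Or.inr ?_
          rw [R.nw_cons, show R.n i * R.nw l * u * (R.n i * R.nw l)⁻¹ =
            R.n i * (R.nw l * u * (R.nw l)⁻¹) * (R.n i)⁻¹ by group]
          exact R.Udel_le_Upos i (R.n_conj_Udel i _ hi)
        · exact Or.inl ⟨R.nw l, R.N_le_G (R.nw_mem_N l), hl, i, hi⟩
    obtain ⟨a, haG, hau, i, hi⟩ := (key [0, 1, 0, 1, 0, 1, 0, 1]).resolve_right fun hl =>
      ht1 (conj_eq_one_iff.1 (hBV (R.Upos_le_B hl)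
        (R.span_conj (fun j hj y hy => R.U_le_span (A := {s | ¬ R.pos s}) (full_neg j hj)
          (R.conj_U_mem (R.map_conj_U _ j) hy)) u hu)))
    obtain ⟨kk, hkk, a₁, ha₁, eku⟩ := R.exists_Upos (i := i) hau
    have ha₁1 : R.n i * a₁ * (R.n i)⁻¹ ≠ 1 := fun e => hi (by
      rw [eku, conj_eq_one_iff.1 e, mul_one]; exact hkk)
    obtain ⟨a₂, ha₂, h₂, hh₂, c₂, hc₂, e⟩ := R.rank_one i _ (R.conj_n_simple ha₁) ha₁1
    have hc₂U : c₂ ∈ R.Upos := R.U_le_Upos (R.pos_simple i) hc₂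
    set w := R.n i * kk * (R.n i)⁻¹ * a₂ with hw
    have hwU : w ∈ R.Upos := mul_mem (R.Udel_le_Upos i (R.n_conj_Udel i kk hkk))
      (R.U_le_Upos (R.pos_simple i) ha₂)
    obtain ⟨w', hw', h₃, hh₃, ew'⟩ := R.exists_B
      (show c₂ * (w * h₂) ∈ R.B from mul_mem (R.Upos_le_B hc₂U) (mul_mem (R.Upos_le_B hwU) (R.H_le_B hh₂)))
    refine step (c₂ * R.n i * a) _ w' h₃ (gen i)
      (mul_mem (mul_mem (hUG hc₂U) (R.n_mem_G i)) haG) rfl hw' hh₃ ?_ (by rw [cnt_one]; exact (cnt_gen i).1)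
    calc c₂ * R.n i * a * u * (c₂ * R.n i * a)⁻¹
        = c₂ * (R.n i * (a * u * a⁻¹) * (R.n i)⁻¹) * c₂⁻¹ := by group
      _ = c₂ * (w * h₂) * R.n i := by
        rw [eku, show R.n i * (kk * a₁) * (R.n i)⁻¹ = R.n i * kk * (R.n i)⁻¹ * (R.n i * a₁ * (R.n i)⁻¹) by
          group, e, hw]
        group
      _ = _ := by rw [ew', n_eq hK i, mul_assoc]
  rcases cases_d d hd2 hd1 with ⟨i, hipos, hine, hlt⟩ | hw | ⟨i, hw⟩
  · -- conjugate by `n i`
    obtain ⟨k₀, hk₀, a, ha, rfl⟩ := R.exists_Upos (i := i) hu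
    have hy : n * a * n⁻¹ ∈ R.Udel i :=
      R.U_le_span (A := {s | R.pos s ∧ s ≠ R.simple i}) ⟨hipos, hine⟩
        (R.conj_U_mem (R.map_conj_H_nw hh (wd d) _) ha)
    set v := a⁻¹ * k₀ * a⁻¹⁻¹ * (n * a * n⁻¹) with hv
    have hv' : v ∈ R.Udel i := mul_mem (R.U_conj_Udel i (inv_mem ha) _ hk₀) hy
    refine step (R.n i * a⁻¹) _ (R.n i * v * (R.n i)⁻¹) (R.n i * h * (R.n i)⁻¹) (gen i * d * gen i)
      (mul_mem (R.n_mem_G i) (inv_mem (hUG (R.U_le_Upos (R.pos_simple i) ha)))) rfl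
      (R.Udel_le_Upos i (R.n_conj_Udel i v hv')) (R.n_conj_H i h hh) ?_ hlt
    have e1 : nd hK (m := m) (gen i * d * gen i) = R.n i * nd hK (m := m) d * (R.n i)⁻¹ := by
      rw [n_eq hK i, nd_inv hK, inv_eq_of_mul_eq_one_right (gen_sq i), nd_mul hK, nd_mul hK]
    rw [et, e1, hv, hn]
    group
  · -- all positive classes become negative
    subst hw
    have hu1 : n * u * n⁻¹ = 1 := hBV hnuB (conj_span_neg hK (fun j hj => w0_neg j hj) hh hu)
    have hu' : u = 1 := conj_eq_one_iff.1 hu1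
    rw [hu', one_mul] at et
    exact ⟨1, one_mem _, h, hh, w0, Or.inl rfl, by rw [et, inv_one, mul_one, one_mul, hn], by rw [← hn, ← et]; exact htt⟩
  · subst hw
    obtain ⟨k₀, hk₀, a, ha, eu⟩ := R.exists_Upos (i := i) hu
    have hna : n * a * n⁻¹ ∈ R.U (sc i) := by
      have h1 := R.conj_U_mem (R.map_conj_H_nw hh (wd (w0 * gen i)) _) ha
      rwa [show R.ww (wd (w0 * gen i)) (R.simple i) = sc i from (w0_gen_act i).1] at h1
    have hnaU : n * a * n⁻¹ ∈ R.Upos := R.U_le_Upos (R.pos_simple i) hna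
    have hk1 : k₀ = 1 := by
      refine conj_eq_one_iff.1 (hBV ?_ (conj_span_neg hK
        (fun j hj => (w0_gen_act i).2 j hj.1 hj.2) hh hk₀))
      rw [show n * k₀ * n⁻¹ = n * u * n⁻¹ * (n * a * n⁻¹)⁻¹ by rw [eu]; group]
      exact mul_mem hnuB (inv_mem (R.Upos_le_B hnaU))
    rw [hk1, one_mul] at eu
    subst eu
    have hn1 : n * n = 1 := by
      refine hUH ?_ hnn
      rw [show n * n = (n * u * n⁻¹)⁻¹ * u⁻¹ by
        rw [hnmu, _root_.mul_inv_rev, inv_inv, inv_inv, mul_inv_cancel_right]]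
      exact mul_mem (inv_mem hnaU) (inv_mem hu)
    by_cases hu1 : u = 1
    · exact ⟨1, one_mem _, h, hh, w0 * gen i, Or.inr ⟨i, rfl⟩, by rw [et, hu1, inv_one, mul_one, one_mul, one_mul, hn], hn1⟩
    obtain ⟨-, hX, hni⟩ := commute_class hK hh hn1
    have ha₁1 : R.n i * u * (R.n i)⁻¹ ≠ 1 := fun e => hu1 (conj_eq_one_iff.1 e)
    obtain ⟨a₂, ha₂, h₂, hh₂, c₂, hc₂, e⟩ := R.rank_one i _ (R.conj_n_simple ha) ha₁1
    have hc₂U : c₂ ∈ R.Upos := R.U_le_Upos (R.pos_simple i) hc₂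
    have hcm : Commute n c₂ := hX _ (Or.inl rfl) _ hc₂
    obtain ⟨w', hw', h₃, hh₃, ew'⟩ := R.exists_B (show c₂ * (a₂ * h₂) ∈ R.B from
      mul_mem (R.Upos_le_B hc₂U) (mul_mem (R.Upos_le_B (R.U_le_Upos (R.pos_simple i) ha₂)) (R.H_le_B hh₂)))
    refine step (c₂ * R.n i) _ w' (h₃ * (R.n i * h * (R.n i)⁻¹)) (gen i * (w0 * gen i))
      (mul_mem (hUG hc₂U) (R.n_mem_G i)) rfl hw' (mul_mem hh₃ (R.n_conj_H i h hh)) ?_ (cnt_gen i).2
    have e2 : R.n i * n * (R.n i)⁻¹ = n := by rw [← hni.eq, mul_inv_cancel_right]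
    have e3 : nd hK (m := m) (gen i * (w0 * gen i)) = R.n i * nd hK (m := m) (w0 * gen i) := by
      rw [n_eq hK i, nd_mul hK]
    calc c₂ * R.n i * t * (c₂ * R.n i)⁻¹
        = c₂ * (R.n i * u * (R.n i)⁻¹) * (R.n i * n * (R.n i)⁻¹ * c₂⁻¹) := by rw [et]; group
      _ = c₂ * (R.n i * u * (R.n i)⁻¹) * (c₂⁻¹ * n) := by rw [e2, (Commute.inv_right hcm).eq]
      _ = c₂ * (a₂ * h₂) * R.n i * n := by rw [e]; group
      _ = _ := by rw [ew', e3, hn]; group

theorem exists_monomial {t : GL chevF4.Idx K} (ht : t ∈ (rgdF4' hK (m := m)).G) (htt : t * t = 1)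
    (ht1 : t ≠ 1) : Reduced hK (m := m) t := by
  set R := rgdF4' hK (m := m)
  obtain ⟨b, hb, l, b', hb', e⟩ := exists_bruhat ht
  rw [nw'_eq_nd hK] at e
  set d := (l.map gen).prod
  have hb'' : b' * b ∈ R.B := mul_mem hb' hb
  obtain ⟨u, hu, h, hh, eb⟩ := R.exists_B hb''
  obtain ⟨c, hc, h', hh', d', hd', e1, e2⟩ := reduced_aux hK (8 - cnt d) (b' * t * b'⁻¹) u h d
    (by rw [show b' * t * b'⁻¹ * (b' * t * b'⁻¹) = b' * (t * t) * b'⁻¹ by group, htt]; group)
    (fun h0 => ht1 (conj_eq_one_iff.1 h0)) hu hh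
    (by rw [← mul_assoc, ← eb, e]; group) rfl
  refine ⟨c * b', mul_mem hc (R.B_le_G hb'), h', hh', d', hd', ?_, e2⟩
  rw [← e1]; group

/-- Every involution is conjugate to one of three monomial representatives. -/
theorem exists_conj_nd {t : GL chevF4.Idx K} (ht : t ∈ (rgdF4' hK (m := m)).G) (htt : t * t = 1)
    (ht1 : t ≠ 1) : ∃ c ∈ (rgdF4' hK (m := m)).G, ∃ d : DihedralGroup 8,
      (d = w0 ∨ ∃ i : Fin 2, d = w0 * gen i) ∧ c * t * c⁻¹ = nd hK (m := m) d := by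
  set R := rgdF4' hK (m := m)
  obtain ⟨c, hc, h, hh, d, hd, e, e2⟩ := exists_monomial hK ht htt ht1
  have hds : ∀ d : DihedralGroup 8, (d = w0 ∨ ∃ i : Fin 2, d = w0 * gen i) → d * d = 1 := by decide +kernel
  set s := nd hK (m := m) d
  have hs : s * s = 1 := by rw [nd_mul hK, hds d hd, nd_one hK]
  have hs' : s⁻¹ = s := inv_eq_of_mul_eq_one_right hs
  have hinv : s * h * s⁻¹ = h⁻¹ := by
    rw [hs']
    refine eq_inv_of_mul_eq_one_right ?_
    rw [← mul_assoc, ← mul_assoc]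
    simpa [mul_assoc] using e2
  obtain ⟨k, hk⟩ : ∃ k, Fintype.card K - 1 + 1 = k + k :=
    ⟨2 ^ (2 * m), by have := Nat.two_pow_pos (2 * m); rw [hK, pow_succ]; omega⟩
  set a := h ^ k
  have haa : a * a = h := by rw [← pow_add, ← hk, pow_succ, H_pow hK hh, one_mul]
  have hsa : s * a * s⁻¹ = a⁻¹ :=
    calc s * h ^ k * s⁻¹ = (s * h * s⁻¹) ^ k := conj_pow.symm
      _ = a⁻¹ := by rw [hinv, inv_pow]
  refine ⟨a⁻¹ * c, mul_mem (inv_mem (pow_mem (R.B_le_G (R.H_le_B hh)) k)) hc, d, hd, ?_⟩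
  calc a⁻¹ * c * t * (a⁻¹ * c)⁻¹ = a⁻¹ * (c * t * c⁻¹) * a := by group
    _ = a⁻¹ * (h * s) * a := by rw [e]
    _ = a⁻¹ * h * (s * a * s⁻¹) * s := by group
    _ = s := by rw [hsa, ← haa]; group

end Cfsg.Agent.ReeInvol
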