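/-
The two representatives of the involutions of ²F₄(q).

* `matK`    : products of root elements `x_r(1)` over a field of characteristic two;
* `zR`, `xR'` : the root words of the representatives;
* `exists_conj_rep` : every involution of ²F₄(q) is conjugate to one of the two representatives.
-/
import Cfsg.Agent.Lib.ReeInvol.Monomial
import Cfsg.Agent.Lib.ReeTwoInvol.BitModel

set_option autoImplicit false
set_option maxRecDepth 100000
set_option linter.unusedSectionVars false
set_option synthInstance.maxSize 4000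

namespace Cfsg.Agent.ReeInvol

open Cfsg.Lie Cfsg.Lie.ChevalleyDatum Cfsg.Agent.Chev Cfsg.Agent.ChevBN
open Cfsg.Agent.Twisted Cfsg.Agent.Twisted.F4
open Cfsg.Agent.ReeTwoInvol (mat mat_cons okL eqv eqv_sound)

/-- The map from the field with two elements. -/
noncomputable def phi (K : Type*) [Field K] [CharP K 2] : ZMod 2 →+* K := ZMod.castHom (dvd_refl 2) K

/-- The product of root elements with parameter one. -/
noncomputable def matK (K : Type*) [Field K] (L : List ℕ) : GL chevF4.Idx K :=
  (L.map fun r => xF K r 1).prod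

/-- The root words of the generators. -/
def gens (k : ℕ) : List ℕ := [[33, 24], [14, 23], [27, 25, 28], [20, 22, 19]].getD k []

/-- The root word of a word in the generators. -/
def expd (w : List ℕ) : List ℕ := w.flatMap gens

/-- Root word of the representative of the class of central involutions. -/
def zR : List ℕ := [44, 47]

/-- Root word of the representative of the second class. -/
def xR' : List ℕ := [39, 45]

/-- A generator word for `zR`. -/
def zW : List ℕ := [0, 1, 0, 2, 2, 2, 3, 2, 2, 0, 1, 0, 2, 2, 0, 1, 0, 2, 2, 2, 3, 2, 2, 0, 1, 0]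

/-- A generator word for `xR'`. -/
def xW : List ℕ :=
  [2, 2, 2, 3, 2, 2, 0, 1, 0, 2, 2, 2, 3, 2, 2, 0, 2, 2, 2, 3, 2, 2, 0, 1, 0, 2, 2, 2, 3, 2, 2]

/-- The root word of the monomial representative. -/
def ndWord (d : DihedralGroup 8) : List ℕ :=
  (ew (wd d)).flatMap fun j => [chevF4.simple j.val, chevF4.neg (chevF4.simple j.val), chevF4.simple j.val]

/-- Conjugators from the representatives to the monomial involutions. -/
def certs : List (DihedralGroup 8 × List ℕ × List ℕ × List ℕ) :=
  [(w0, xR', [0, 2, 3, 1, 0, 2, 1, 3, 0, 1, 3, 2, 1], [2, 3, 3, 1, 3, 2, 0, 2]),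
   (w0 * gen 0, xR', [3, 3, 2, 1, 3, 1, 3, 2, 1, 3, 0, 2], [2, 3, 3, 1, 3, 2, 0, 2]),
   (w0 * gen 1, zR, [0, 2, 1, 3, 3, 0, 1, 3, 0, 2, 1], [1, 3, 2, 0, 2])]

/-- The conjugating word of a certificate. -/
def conjWord (pa pb : List ℕ) : List ℕ := expd pa ++ (expd pb).reverse

/-- The conjugate of a representative by the word of a certificate. -/
def conjRep (c : DihedralGroup 8 × List ℕ × List ℕ × List ℕ) : List ℕ :=
  conjWord c.2.2.1 c.2.2.2 ++ c.2.1 ++ (conjWord c.2.2.1 c.2.2.2).reverse

/-- The check of a certificate. -/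
def certOK (c : DihedralGroup 8 × List ℕ × List ℕ × List ℕ) : Bool :=
  okL (ndWord c.1) && okL (conjRep c) && eqv (ndWord c.1) (conjRep c)

theorem certs_ok : certs.all certOK = true := by decide +kernel

theorem certs_cover : ∀ d : DihedralGroup 8, (d = w0 ∨ ∃ i : Fin 2, d = w0 * gen i) →
    ∃ c ∈ certs, c.1 = d ∧ (c.2.1 = zR ∨ c.2.1 = xR') := by
  decide +kernel

theorem reps_ok : (okL zR && okL (expd zW) && eqv zR (expd zW)) = true ∧
    (okL xR' && okL (expd xW) && eqv xR' (expd xW)) = true := by
  decide +kernel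

variable {K : Type*} [Field K] [CharP K 2]

theorem x_phi (r : ℕ) :
    (chevF4.x (ZMod 2) r 1).map (phi K) = chevF4.x K r 1 := by
  by_cases hr : r < chevF4.nroots
  · rw [x_eq_xR chevF4 hr, x_eq_xR chevF4 hr, xR_map, map_one]
  · rw [x_of_le chevF4 (not_lt.1 hr), x_of_le chevF4 (not_lt.1 hr)]
    exact Matrix.map_one _ (map_zero _) (map_one _)

theorem matK_nil : matK K [] = 1 := rfl

theorem matK_cons (r : ℕ) (L : List ℕ) : matK K (r :: L) = xF K r 1 * matK K L := by simp [matK]

theorem matK_append (A B : List ℕ) : matK K (A ++ B) = matK K A * matK K B := by simp [matK]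

theorem coe_matK : ∀ L : List ℕ,
    ((mat L : Matrix chevF4.Idx chevF4.Idx (ZMod 2))).map (phi K) = (matK K L : Matrix chevF4.Idx chevF4.Idx K) := by
  intro L
  induction L with
  | nil => exact Matrix.map_one _ (map_zero _) (map_one _)
  | cons r L ih =>
    rw [mat_cons, matK_cons, Units.val_mul, Units.val_mul, Matrix.map_mul, ih, coe_xg, coe_xg, x_phi]

theorem matK_congr {L L' : List ℕ} (h : mat L = mat L') : matK K L = matK K L' :=
  Units.ext (by rw [← coe_matK L, ← coe_matK L', h])

theorem matK_reverse : ∀ L : List ℕ, matK K L * matK K L.reverse = 1 := by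
  intro L
  induction L with
  | nil => simp [matK]
  | cons r L ih =>
    have hr : xF K r 1 * xF K r 1 = 1 := by
      by_cases hlt : r < chevF4.nroots
      · show xg DataF4.good K r 1 * xg DataF4.good K r 1 = 1
        rw [xg_add DataF4.good hlt, CharTwo.add_self_eq_zero, xg_zero]
      · show xg DataF4.good K r 1 * xg DataF4.good K r 1 = 1
        rw [xg_out DataF4.good hlt, mul_one]
    rw [List.reverse_cons, matK_append, matK_cons, matK_cons, matK_nil, mul_one,
      show xF K r 1 * matK K L * (matK K L.reverse * xF K r 1) =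
        xF K r 1 * (matK K L * matK K L.reverse) * xF K r 1 by group, ih, mul_one, hr]

variable [Fintype K] {m : ℕ} (hK : Fintype.card K = 2 ^ (2 * m + 1))
include hK

theorem gens_mem : ∀ k, matK K (gens k) ∈ twistedF4 K (2 ^ m) := by
  intro k
  match k with
  | 0 => simpa [gens, matK, one_pow] using op_mem (m := m) hK (1 : K)
  | 1 => simpa [gens, matK, one_pow] using om_mem (m := m) hK (1 : K)
  | 2 =>
    have h := b_mem (m := m) hK (1 : K) (0 : K)
    simpa [gens, matK, one_pow, xg_zero, mul_assoc, zero_pow] using h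
  | 3 =>
    have h := bm_mem (m := m) hK (1 : K) (0 : K)
    simpa [gens, matK, one_pow, xg_zero, mul_assoc, zero_pow] using h
  | k + 4 => simp [gens, matK]

theorem expd_mem (w : List ℕ) : matK K (expd w) ∈ twistedF4 K (2 ^ m) := by
  induction w with
  | nil => exact one_mem _
  | cons k w ih =>
    show matK K (gens k ++ expd w) ∈ _
    rw [matK_append]
    exact mul_mem (gens_mem hK k) ih

theorem zR_mem : matK K zR ∈ twistedF4 K (2 ^ m) := by
  rw [matK_congr (eqv_sound reps_ok.1)]
  exact expd_mem hK zW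

theorem xR'_mem : matK K xR' ∈ twistedF4 K (2 ^ m) := by
  rw [matK_congr (eqv_sound reps_ok.2)]
  exact expd_mem hK xW

theorem nd_eq_matK (d : DihedralGroup 8) : nd hK (m := m) d = matK K (ndWord d) := by
  show (rgdF4' hK (m := m)).nw (wd d) = _
  rw [nw'_eq hK, ndWord]
  induction ew (wd d) with
  | nil => rfl
  | cons j l ih =>
    rw [RGD.RootData.nw_cons, List.flatMap_cons, matK_append, ih]
    congr 1
    show ng DataF4.good K (chevF4.simple j.val) 1 = _
    simp [ng, matK, CharTwo.neg_eq, mul_assoc]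

/-- Every involution of ²F₄(q) is conjugate to one of the two representatives. -/
theorem exists_conj_rep {t : GL chevF4.Idx K} (ht : t ∈ twistedF4 K (2 ^ m)) (htt : t * t = 1) (ht1 : t ≠ 1) :
    ∃ c ∈ twistedF4 K (2 ^ m), ∃ R : List ℕ, (R = zR ∨ R = xR') ∧ c * t * c⁻¹ = matK K R := by
  rw [twisted_eq hK] at ht ⊢
  obtain ⟨c, hc, d, hd, e⟩ := exists_conj_nd hK ht htt ht1
  obtain ⟨e', he', rfl, hR⟩ := certs_cover d hd
  obtain ⟨L, eL⟩ : ∃ L, L = conjWord e'.2.2.1 e'.2.2.2 := ⟨_, rfl⟩
  have hL : matK K L ∈ (rgdF4' hK (m := m)).G := by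
    rw [← twisted_eq hK]
    have h1 : matK K (expd e'.2.2.2).reverse = (matK K (expd e'.2.2.2))⁻¹ :=
      (inv_eq_of_mul_eq_one_right (matK_reverse _)).symm
    rw [eL, conjWord]
    rw [matK_append, h1]
    exact mul_mem (expd_mem hK _) (inv_mem (expd_mem hK _))
  refine ⟨(matK K L)⁻¹ * c, mul_mem (inv_mem hL) hc, e'.2.1, hR, ?_⟩
  have h2 := matK_congr (K := K) (eqv_sound (List.all_eq_true.1 certs_ok e' he'))
  rw [conjRep, ← eL] at h2
  rw [matK_append, matK_append, ← inv_eq_of_mul_eq_one_right (matK_reverse (K := K) L),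
    ← nd_eq_matK hK, ← e] at h2
  calc (matK K L)⁻¹ * c * t * ((matK K L)⁻¹ * c)⁻¹ = (matK K L)⁻¹ * (c * t * c⁻¹) * matK K L := by group
    _ = matK K e'.2.1 := by rw [h2]; group

end Cfsg.Agent.ReeInvol
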