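/-
A coordinate subspace fixed by the centraliser of each representative of the involutions of ²F₄(q).

* `Maps`          : a matrix carries one coordinate subspace into another;
* `maps_of_conj`  : elements conjugating one representative to the other do so;
* `maps_B`, `not_maps_nd` : the stabiliser contains `B` and meets the Weyl group in `⟨gen i⟩`;
* `orderOf_dvd`, `not_conj` : the consequences.
-/
import Cfsg.Agent.Lib.ReeInvol.Words

set_option autoImplicit false
set_option maxRecDepth 100000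
set_option linter.unusedSectionVars false
set_option synthInstance.maxSize 4000
set_option backward.isDefEq.respectTransparency false

namespace Cfsg.Agent.ReeInvol

open Matrix
open Cfsg.Lie Cfsg.Lie.ChevalleyDatum Cfsg.Agent.Chev Cfsg.Agent.ChevBN
open Cfsg.Agent.Twisted Cfsg.Agent.Twisted.F4
open Cfsg.Agent.ReeUnipotent (coord code inI Pres pres_of_mem_genSubgroup)
open Cfsg.Agent.ReeTwoInvol (mat ap vec bit okL_iff mulVec_mat vec_two_pow bit_xor code_coord coord_code code_lt)

/-- Entries detecting the coordinates outside the subspace of `z`. -/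
def detZ : List (List (ℕ × ℕ)) :=
  [[], [], [(43, 17), (44, 18), (48, 0)], [(33, 0), (33, 7), (48, 0)], [(22, 0)], [(23, 0)], [(24, 0)], [], [(31, 0)], [(32, 0)], [(33, 0)], [], [], [], [], [], [], [], [], [(37, 17)], [(37, 16)], [(37, 15)], [], [], [], [(38, 14)], [(38, 13)], [(39, 14)], [(40, 13), (40, 17)], [(39, 12)], [(40, 12), (40, 16)], [], [], [], [(41, 11)], [(42, 11), (42, 14)], [(43, 11), (43, 14)], [], [], [], [], [], [], [], [], [(48, 0), (48, 7)], [], [], [], [], [], []]

/-- Entries detecting the coordinates outside the subspace of `x`. -/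
def detX : List (List (ℕ × ℕ)) :=
  [[], [], [(43, 1), (44, 17), (48, 24)], [(33, 16), (48, 24)], [(13, 1)], [(14, 1)], [(13, 13)], [], [(18, 1)], [(15, 11)], [(16, 11)], [], [], [], [], [], [], [], [], [(37, 1)], [(22, 7)], [(23, 7)], [], [], [], [(41, 1)], [(42, 1)], [(41, 14)], [(42, 13)], [(43, 14)], [(43, 13)], [], [], [], [(44, 23)], [(44, 22)], [(17, 11), (44, 11)], [], [], [], [], [], [], [], [], [(48, 16)], [(48, 15)], [(24, 7), (48, 7)], [], [], [], []]

/-- The data of a representative: the root word, the coordinates outside the ideal of the subspace,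
kernel vectors for them, the detecting entries, and the fundamental reflection in the stabiliser. -/
structure Rep where
  R : List ℕ
  extra : List ℕ
  ker : List (List ℕ)
  det : List (List (ℕ × ℕ))
  i : Fin 2

/-- The data of the central class. -/
def zRep : Rep := ⟨zR, [46, 47, 48, 49, 50, 51], [[46], [47], [48], [49], [50], [51]], detZ, 1⟩

/-- The data of the second class. -/
def xRep : Rep := ⟨xR', [49, 50, 51], [[49, 43], [50], [51]], detX, 0⟩

/-- Membership in the subspace. -/
def Rep.inT (ρ : Rep) (a : chevF4.Idx) : Prop := inI a ∨ code a ∈ ρ.extra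

instance (ρ : Rep) : DecidablePred ρ.inT := fun _ => inferInstanceAs (Decidable (_ ∨ _))

/-- The positions of the bits of a column of `x - 1`. -/
def colBits (R : List ℕ) (col : chevF4.Idx) : List ℕ :=
  (List.range 52).filter fun b => (ap R (2 ^ code col) ^^^ 2 ^ code col).testBit b

/-- An entry of `ad e_a ∘ (x - 1)` over the field with two elements. -/
def cF (R : List ℕ) (a row col : chevF4.Idx) : ZMod 2 :=
  ((colBits R col).map fun b => adB chevF4 (ZMod 2) a row (coord b)).sum

/-- The check that the kernel vectors are annihilated. -/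
def kerOK (ρ : Rep) : Bool :=
  ρ.ker.all fun k => decide (∀ row col : chevF4.Idx, inI col →
    ((k.map fun a => cF ρ.R (coord a) row col).sum == 0) = true)

/-- The check that the coordinates outside the subspace are detected. -/
def detOK (ρ : Rep) : Bool :=
  decide (∀ c : chevF4.Idx, ¬ ρ.inT c → (∀ p ∈ ρ.det.getD (code c) [], inI (coord p.2)) ∧
    ∀ a : chevF4.Idx, (((ρ.det.getD (code c) []).map fun p => cF ρ.R a (coord p.1) (coord p.2)).sum ==
      if a = c then 1 else 0) = true)

/-- The check that each extra coordinate has a kernel vector. -/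
def kerShape (ρ : Rep) : Bool :=
  (ρ.extra.all fun t => ρ.ker.any fun k =>
    decide (k.head? = some t ∧ ∀ a ∈ k.tail, inI (coord a))) && okL ρ.R
where
  okL (L : List ℕ) : Bool := ReeTwoInvol.okL L

/-- The condition that the root elements of a root preserve the subspace. -/
def rootKeeps (ρ : Rep) (r : ℕ) : Bool :=
  decide ((∀ i : Fin 4, ρ.inT (Sum.inl i) → ∀ u : Fin 48, ¬ ρ.inT (Sum.inr u) → u.val = r →
      2 ∣ chevF4.cartan i.val r) ∧
    ∀ s : Fin 48, ρ.inT (Sum.inr s) → s.val ≠ r →
      (s.val = chevF4.neg r → (∀ i : Fin 4, ¬ ρ.inT (Sum.inl i) → 2 ∣ (chevF4.coroot.getD r #[]).getD i.val 0) ∧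
        ∀ u : Fin 48, u.val = r → ρ.inT (Sum.inr u)) ∧
      (s.val ≠ chevF4.neg r → ∀ u : Fin 48, ¬ ρ.inT (Sum.inr u) → ∀ km ∈ chevF4.chainCoeff r s.val u.val,
        2 ∣ km.2))

theorem kerOK_z : kerOK zRep = true := by decide +kernel

theorem kerOK_x : kerOK xRep = true := by decide +kernel

theorem detOK_z : detOK zRep = true := by decide +kernel

theorem detOK_x : detOK xRep = true := by decide +kernel

theorem shape_ok : kerShape zRep = true ∧ kerShape xRep = true := by decide +kernel

theorem keeps_ok : ∀ j < 8, ∀ r ∈ cls j, rootKeeps zRep r = true ∧ rootKeeps xRep r = true := by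
  decide +kernel

/-- Either `d` is `1` or `gen i`, or its matrix carries some coordinate out of the subspace. -/
def ndCheck (ρ : Rep) : Bool :=
  decide (∀ d : DihedralGroup 8, d = 1 ∨ d = gen ρ.i ∨ ∃ col : chevF4.Idx, ρ.inT col ∧
    ∃ row : chevF4.Idx, ¬ ρ.inT row ∧ (ap (ndWord d) (2 ^ code col)).testBit (code row) = true) &&
    ((List.range 52).all fun c => decide (ρ.inT (coord c) →
      ∀ b : chevF4.Idx, ¬ ρ.inT b → (ap (ndWord (gen ρ.i)) (2 ^ c)).testBit (code b) = false)) &&
    decide (∀ d : DihedralGroup 8, ReeTwoInvol.okL (ndWord d) = true)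

theorem nd_ok : ndCheck zRep = true ∧ ndCheck xRep = true := by decide +kernel

/-- The two data are valid. -/
def Valid (ρ : Rep) : Prop := ρ = zRep ∨ ρ = xRep

theorem Valid.ker {ρ : Rep} (h : Valid ρ) : kerOK ρ = true := by
  rcases h with rfl | rfl; exacts [kerOK_z, kerOK_x]

theorem Valid.det {ρ : Rep} (h : Valid ρ) : detOK ρ = true := by
  rcases h with rfl | rfl; exacts [detOK_z, detOK_x]

theorem Valid.shape {ρ : Rep} (h : Valid ρ) : kerShape ρ = true := by
  rcases h with rfl | rfl; exacts [shape_ok.1, shape_ok.2]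

theorem Valid.keeps {ρ : Rep} (h : Valid ρ) {j : ℕ} (hj : j < 8) {r : ℕ} (hr : r ∈ cls j) :
    rootKeeps ρ r = true := by
  rcases h with rfl | rfl; exacts [(keeps_ok j hj r hr).1, (keeps_ok j hj r hr).2]

theorem Valid.ndc {ρ : Rep} (h : Valid ρ) : ndCheck ρ = true := by
  rcases h with rfl | rfl; exacts [nd_ok.1, nd_ok.2]

theorem Valid.okR {ρ : Rep} (h : Valid ρ) : ∀ r ∈ ρ.R, r < 48 := by
  rcases h with rfl | rfl <;> decide

variable {K : Type*} [Field K] [CharP K 2]

theorem matK_entry {L : List ℕ} (hL : ∀ r ∈ L, r < 48) (row col : chevF4.Idx) :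
    (matK K L : Matrix chevF4.Idx chevF4.Idx K) row col = phi K (bit (ap L (2 ^ code col)) (code row)) := by
  rw [← coe_matK]
  have h := congrFun (mulVec_mat L hL (2 ^ code col)) row
  rw [vec_two_pow, Matrix.mulVec_single_one] at h
  exact congrArg (phi K) h

/-- The map `x - 1` of a representative. -/
noncomputable def mR (K : Type*) [Field K] (R : List ℕ) : Matrix chevF4.Idx chevF4.Idx K :=
  (matK K R : Matrix chevF4.Idx chevF4.Idx K) + 1

theorem mR_entry {R : List ℕ} (hR : ∀ r ∈ R, r < 48) (row col : chevF4.Idx) :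
    mR K R row col = phi K (bit (ap R (2 ^ code col) ^^^ 2 ^ code col) (code row)) := by
  rw [mR, Matrix.add_apply, matK_entry hR, bit_xor, map_add]
  congr 1
  have h := congrFun (vec_two_pow col) row
  change bit (2 ^ code col) (code row) = _ at h
  rw [h, Matrix.one_apply, Pi.single_apply]
  split_ifs <;> simp

theorem entry_eq {R : List ℕ} (hR : ∀ r ∈ R, r < 48) (v : chevF4.Idx → K) (row col : chevF4.Idx) :
    (ad chevF4 K v * mR K R) row col = ∑ a, v a * phi K (cF R a row col) := by
  have h1 : ∀ a : chevF4.Idx, (adB chevF4 K a * mR K R) row col = phi K (cF R a row col) := by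
    intro a
    have h2 : ∀ b : chevF4.Idx, adB chevF4 K a row b * mR K R b col =
        phi K (adB chevF4 (ZMod 2) a row b *
          bit (ap R (2 ^ code col) ^^^ 2 ^ code col) (code b)) := by
      intro b
      rw [map_mul, mR_entry hR, ← adB_map chevF4 (phi K) a]
      rfl
    rw [Matrix.mul_apply, Finset.sum_congr rfl fun b _ => h2 b, ← map_sum]
    refine congrArg (phi K) ?_
    rw [cF, colBits, ← List.sum_toFinset _ ((List.nodup_range).filter _)]
    rw [List.toFinset_filter]
    refine Finset.sum_bij_ne_zero (fun b _ _ => code b) ?_ ?_ ?_ ?_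
    · intro b _ hb
      simp only [Finset.mem_filter, List.mem_toFinset, List.mem_range]
      refine ⟨code_lt b, ?_⟩
      by_contra hn
      exact hb (by simp [bit, hn])
    · intro b _ _ c _ _ h
      rw [← coord_code b, h, coord_code]
    · intro c hc hne
      simp only [Finset.mem_filter, List.mem_toFinset, List.mem_range] at hc
      refine ⟨coord c, Finset.mem_univ _, ?_, code_coord c hc.1⟩
      rw [code_coord c hc.1]
      simpa [bit, hc.2] using hne
    · intro b _ hb
      rw [coord_code]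
      by_cases h : (ap R (2 ^ code col) ^^^ 2 ^ code col).testBit (code b)
      · simp [bit, h]
      · exact absurd (by simp [bit, h]) hb
  rw [ad_apply, Finset.sum_mul, Matrix.sum_apply]
  refine Finset.sum_congr rfl fun a _ => ?_
  rw [Matrix.smul_mul, Matrix.smul_apply, smul_eq_mul, h1]

/-- The vectors killed by `ad v ∘ (x - 1)` on the ideal. -/
def InKer (ρ : Rep) (v : chevF4.Idx → K) : Prop :=
  ∀ row col : chevF4.Idx, inI col → (ad chevF4 K v * mR K ρ.R) row col = 0

theorem eq_zero_of_inKer {ρ : Rep} (h : Valid ρ) {v : chevF4.Idx → K} (hv : InKer ρ v) {c : chevF4.Idx}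
    (hc : ¬ ρ.inT c) : v c = 0 := by
  have hd := of_decide_eq_true h.det c hc
  set L := ρ.det.getD (code c) []
  have h0 : (L.map fun p => (ad chevF4 K v * mR K ρ.R) (coord p.1) (coord p.2)).sum = 0 :=
    List.sum_eq_zero fun x hx => by
      obtain ⟨p, hp, rfl⟩ := List.mem_map.1 hx
      exact hv _ _ (hd.1 p hp)
  have h1 : (L.map fun p => (ad chevF4 K v * mR K ρ.R) (coord p.1) (coord p.2)).sum =
      ∑ a, v a * phi K ((L.map fun p => cF ρ.R a (coord p.1) (coord p.2)).sum) := by
    clear hd h0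
    induction L with
    | nil => simp
    | cons p L ih =>
      rw [List.map_cons, List.sum_cons, ih, entry_eq h.okR, ← Finset.sum_add_distrib]
      exact Finset.sum_congr rfl fun a _ => by rw [List.map_cons, List.sum_cons, map_add, mul_add]
  rw [h1, Finset.sum_eq_single c] at h0
  · rw [beq_iff_eq.1 (hd.2 c), if_pos rfl, map_one, mul_one] at h0
    exact h0
  · intro a _ hac
    rw [beq_iff_eq.1 (hd.2 a), if_neg hac, map_zero, mul_zero]
  · simp

/-- The sum of the basis vectors of a list of coordinate numbers. -/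
noncomputable def kv (k : List ℕ) : chevF4.Idx → K := (k.map fun a => Pi.single (coord a) (1 : K)).sum

theorem inKer_kv {ρ : Rep} (h : Valid ρ) {k : List ℕ} (hk : k ∈ ρ.ker) : InKer ρ (kv (K := K) k) := by
  intro row col hc
  have hck := of_decide_eq_true (List.all_eq_true.1 h.ker k hk) row col hc
  have e : (ad chevF4 K (kv k) * mR K ρ.R) row col =
      phi K ((k.map fun a => cF ρ.R (coord a) row col).sum) := by
    clear hck hk
    induction k with
    | nil => simp [kv]
    | cons a k ih =>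
      rw [List.map_cons, List.sum_cons, map_add, ← ih, kv, List.map_cons, List.sum_cons, map_add, add_mul,
        Matrix.add_apply, ← kv, entry_eq h.okR (Pi.single (coord a) 1)]
      congr 1
      rw [Finset.sum_eq_single (coord a)]
      · simp
      · intro b _ hb; simp [hb]
      · simp
  rw [e, beq_iff_eq.1 hck, map_zero]

/-- `g` carries the subspace of `ρ` into that of `σ'`. -/
def Maps (ρ σ' : Rep) (g : Matrix chevF4.Idx chevF4.Idx K) : Prop :=
  ∀ row col, ρ.inT col → ¬ σ'.inT row → g row col = 0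

variable [Fintype K] {m : ℕ} (hK : Fintype.card K = 2 ^ (2 * m + 1))
include hK

theorem maps_of_conj {ρ σ' : Rep} (hρ : Valid ρ) (hσ : Valid σ') {g : GL chevF4.Idx K}
    (hg : g ∈ twistedF4 K (2 ^ m)) (he : g * matK K ρ.R = matK K σ'.R * g) :
    Maps ρ σ' (g : Matrix chevF4.Idx chevF4.Idx K) := by
  intro row col hcol hrow
  have hp := pres_of_mem_genSubgroup hg
  have hp' := pres_of_mem_genSubgroup (inv_mem hg)
  set A : Matrix chevF4.Idx chevF4.Idx K := g.val
  set A' : Matrix chevF4.Idx chevF4.Idx K := (g⁻¹ : GL chevF4.Idx K).val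
  by_cases hI : inI col
  · exact hp.block row col hI fun h => hrow (Or.inl h)
  have hex : code col ∈ ρ.extra := hcol.resolve_left hI
  obtain ⟨k, hk, hkk⟩ : ∃ k ∈ ρ.ker, k.head? = some (code col) ∧ ∀ a ∈ k.tail, inI (coord a) := by
    have := hρ.shape
    simp only [kerShape, Bool.and_eq_true, List.all_eq_true, List.any_eq_true, decide_eq_true_eq] at this
    exact this.1 _ hex
  obtain ⟨k', rfl⟩ : ∃ k', k = code col :: k' := by
    rcases k with _ | ⟨a, k'⟩
    · simp at hkk
    · exact ⟨k', by simpa using hkk.1⟩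
  simp only [List.tail_cons] at hkk
  have hm : mR K σ'.R * A = A * mR K ρ.R := by
    have e1 := congrArg Units.val he
    rw [Units.val_mul, Units.val_mul] at e1
    rw [mR, mR, add_mul, one_mul, mul_add, mul_one, ← e1]
  have hAA : A * A' = 1 := by rw [← Units.val_mul, mul_inv_cancel, Units.val_one]
  have hker : InKer σ' (A *ᵥ kv (code col :: k')) := by
    intro r c hc
    have e : ad chevF4 K (A *ᵥ kv (code col :: k')) * mR K σ'.R =
        A * (ad chevF4 K (kv (code col :: k')) * mR K ρ.R) * A' :=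
      calc ad chevF4 K (A *ᵥ kv (code col :: k')) * mR K σ'.R
          = ad chevF4 K (A *ᵥ kv (code col :: k')) * mR K σ'.R * (A * A') := by rw [hAA, mul_one]
        _ = ad chevF4 K (A *ᵥ kv (code col :: k')) * (mR K σ'.R * A) * A' := by simp only [mul_assoc]
        _ = ad chevF4 K (A *ᵥ kv (code col :: k')) * A * mR K ρ.R * A' := by rw [hm]; simp only [mul_assoc]
        _ = _ := by rw [← hp.conj]; simp only [mul_assoc]
    rw [e, Matrix.mul_apply]
    refine Finset.sum_eq_zero fun b _ => ?_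
    by_cases hb : inI b
    · rw [Matrix.mul_apply, Finset.sum_eq_zero (fun x _ => ?_), zero_mul]
      rw [inKer_kv hρ hk x b hb, mul_zero]
    · rw [hp'.block b c hc hb, mul_zero]
  have h0 := eq_zero_of_inKer hσ hker hrow
  rw [kv, List.map_cons, List.sum_cons, coord_code, Matrix.mulVec_add, Pi.add_apply,
    Matrix.mulVec_single_one] at h0
  have h1 : (A *ᵥ (k'.map fun a => Pi.single (coord a) (1 : K)).sum) row = 0 := by
    have hk2 := hkk.2
    clear h0 hk hker hkk
    induction k' with
    | nil => simp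
    | cons a k' ih =>
      rw [List.map_cons, List.sum_cons, Matrix.mulVec_add, Pi.add_apply,
        ih (fun b hb => hk2 b (List.mem_cons_of_mem _ hb)), add_zero, Matrix.mulVec_single_one]
      exact hp.block row (coord a) (hk2 a List.mem_cons_self) fun h => hrow (Or.inl h)
  rw [h1, add_zero] at h0
  exact h0

omit [Fintype K] hK in
theorem maps_mul {ρ : Rep} {g h : Matrix chevF4.Idx chevF4.Idx K} (hg : Maps ρ ρ g) (hh : Maps ρ ρ h) :
    Maps ρ ρ (g * h) := by
  intro row col hc hr
  rw [Matrix.mul_apply]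
  refine Finset.sum_eq_zero fun k _ => ?_
  by_cases hk : ρ.inT k
  · rw [hg row k hk hr, zero_mul]
  · rw [hh k col hc hk, mul_zero]

omit [Fintype K] hK in
theorem maps_one (ρ : Rep) : Maps ρ ρ (1 : Matrix chevF4.Idx chevF4.Idx K) :=
  fun _ _ hc hr => Matrix.one_apply_ne fun e => hr (e ▸ hc)

/-- The stabiliser of the subspace. -/
def stab (K : Type*) [Field K] [CharP K 2] (ρ : Rep) : Subgroup (GL chevF4.Idx K) where
  carrier := {g | Maps ρ ρ (g : Matrix chevF4.Idx chevF4.Idx K) ∧
    Maps ρ ρ ((g⁻¹ : GL chevF4.Idx K) : Matrix chevF4.Idx chevF4.Idx K)}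
  one_mem' := ⟨maps_one ρ, by rw [inv_one]; exact maps_one ρ⟩
  mul_mem' ha hb := ⟨by rw [Units.val_mul]; exact maps_mul ha.1 hb.1,
    by rw [_root_.mul_inv_rev, Units.val_mul]; exact maps_mul hb.2 ha.2⟩
  inv_mem' ha := ⟨ha.2, by rw [inv_inv]; exact ha.1⟩

omit [Fintype K] hK in
theorem cast_even {z : ℤ} (h : 2 ∣ z) : (z : K) = 0 := (CharP.intCast_eq_zero_iff K 2 z).2 h

omit [Fintype K] hK in
theorem maps_x {ρ : Rep} {r : ℕ} (hr : r < chevF4.nroots) (h : rootKeeps ρ r = true) (t : K) :
    Maps ρ ρ (chevF4.x K r t) := by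
  obtain ⟨h1, h2⟩ := of_decide_eq_true h
  intro row col hc hrw
  rw [x_eq_xR chevF4 hr t]
  rcases col with i | s <;> rcases row with i' | u
  · have : i' ≠ i := fun e => hrw (e ▸ hc)
    simp [xR, this]
  · simp only [xR, Matrix.of_apply]
    split_ifs with h'
    · rw [cast_even (h1 i hc u hrw h'), neg_zero, zero_mul]
    · rfl
  · simp only [xR, Matrix.of_apply]
    split_ifs with e1 e2
    · rfl
    · rw [cast_even (((h2 s hc e1).1 e2).1 i' hrw), zero_mul]
    · rfl
  · simp only [xR, Matrix.of_apply]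
    have hus : u ≠ s := fun e => hrw (e ▸ hc)
    split_ifs with e1 e2 e3 e4
    · exact absurd (by rw [show u = s from Fin.ext (e2.trans e1.symm)]; exact hc) hrw
    · rfl
    · exact absurd (((h2 s hc e1).1 e3).2 u e4) hrw
    · rfl
    · rw [zero_add]
      refine List.sum_eq_zero fun x hx => ?_
      obtain ⟨km, hkm, rfl⟩ := List.mem_map.1 hx
      rw [cast_even ((h2 s hc e1).2 e3 u hrw km hkm), zero_mul]

theorem Upos_le_stab {ρ : Rep} (hρ : Valid ρ) : (rgdF4' hK (m := m)).Upos ≤ stab K ρ := by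
  refine iSup₂_le fun j hj x hx => ?_
  have hle : spF K (cls j.val) ≤ stab K ρ := sp_le DataF4.good rootsF4 fun r hr hlt t => by
    refine ⟨?_, ?_⟩
    · rw [coe_xg]; exact maps_x hlt (hρ.keeps hj hr) t
    · rw [xg_inv, coe_xg]; exact maps_x hlt (hρ.keeps hj hr) (-t)
  exact hle (Subgroup.mem_inf.1 hx).1

theorem H_le_stab (ρ : Rep) : (rgdF4' hK (m := m)).H ≤ stab K ρ := by
  have key : ∀ h ∈ chevF4.diagonalSubgroup K, ∀ row col : chevF4.Idx, row ≠ col →
      (h : Matrix chevF4.Idx chevF4.Idx K) row col = 0 := by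
    intro h hh
    obtain ⟨c, rfl⟩ := tF_surj hK hh
    intro row col hne
    simp [tF, ChevOrder.torusHom, dg, hne]
  intro h hh
  exact ⟨fun row col hc hr => key h hh.1 row col fun e => hr (e ▸ hc),
    fun row col hc hr => key _ (inv_mem hh.1) row col fun e => hr (e ▸ hc)⟩

theorem nd_bit (d : DihedralGroup 8) {ρ : Rep} (hρ : Valid ρ) (row col : chevF4.Idx) :
    (nd hK (m := m) d : Matrix chevF4.Idx chevF4.Idx K) row col =
      phi K (bit (ap (ndWord d) (2 ^ code col)) (code row)) := by
  have h := hρ.ndc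
  simp only [ndCheck, Bool.and_eq_true, decide_eq_true_eq] at h
  rw [nd_eq_matK hK, matK_entry (okL_iff.1 (h.2 d))]

theorem nd_gen_mem {ρ : Rep} (hρ : Valid ρ) : nd hK (m := m) (gen ρ.i) ∈ stab K ρ := by
  have h := hρ.ndc
  simp only [ndCheck, Bool.and_eq_true, decide_eq_true_eq, List.all_eq_true, List.mem_range] at h
  have key : Maps ρ ρ (nd hK (m := m) (gen ρ.i) : Matrix chevF4.Idx chevF4.Idx K) := by
    intro row col hc hr
    have := h.1.2 (code col) (code_lt col) (by rwa [coord_code]) row hr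
    rw [nd_bit hK _ hρ, bit, this]
    simp
  refine ⟨key, ?_⟩
  rw [nd_inv hK, inv_eq_of_mul_eq_one_right (gen_sq ρ.i)]
  exact key

theorem eq_of_nd_mem {ρ : Rep} (hρ : Valid ρ) {d : DihedralGroup 8} (hd : nd hK (m := m) d ∈ stab K ρ) :
    d = 1 ∨ d = gen ρ.i := by
  have h := hρ.ndc
  simp only [ndCheck, Bool.and_eq_true, decide_eq_true_eq] at h
  rcases h.1.1 d with e | e | ⟨col, hc, row, hr, hb⟩
  · exact Or.inl e
  · exact Or.inr e
  · have h1 := hd.1 row col hc hr
    rw [nd_bit hK d hρ, bit, if_pos hb, map_one] at h1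
    exact absurd h1 one_ne_zero

/-- The exponent of the rank one residue. -/
def kexp (i : Fin 2) : ℕ := if i = 0 then 1 else 2

omit [Fintype K] hK [CharP K 2] in
theorem inv_gen_len : ∀ i : Fin 2, (seg (inv (gen i)).1 (inv (gen i)).2).length / 2 = kexp i ∧
    (inv (gen i)).2 ≤ 8 ∧ (seg (inv 1).1 (inv 1).2).length / 2 = 0 ∧ gen i ≠ 1 := by
  decide +kernel

/-- The order of the stabiliser of the subspace in ²F₄(q). -/
theorem card_stab {ρ : Rep} (hρ : Valid ρ) : Nat.card ↥(stab K ρ ⊓ (rgdF4' hK (m := m)).G) =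
    (2 ^ (2 * m + 1)) ^ 12 * (2 ^ (2 * m + 1) - 1) ^ 2 * (1 + (2 ^ (2 * m + 1)) ^ kexp ρ.i) := by
  classical
  set R := rgdF4' hK (m := m) with hR
  set P := stab K ρ ⊓ R.G
  have hB : R.B ≤ P := le_inf (sup_le (Upos_le_stab hK hρ) (H_le_stab hK ρ)) R.B_le_G
  have hn : ∀ d, (d = 1 ∨ d = gen ρ.i) → nd hK (m := m) d ∈ P := by
    rintro d (rfl | rfl)
    · rw [nd_one hK]; exact one_mem _
    · exact Subgroup.mem_inf.2 ⟨nd_gen_mem hK hρ, R.N_le_G (nd_mem_N hK _)⟩
  let S : Finset (DihedralGroup 8) := {1, gen ρ.i}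
  have hS : ∀ d ∈ S, d = 1 ∨ d = gen ρ.i := fun d hd => by simpa [S] using hd
  let f : (Σ d : S, ↥(Aof (K := K) (m := m) d.1) × ↥R.B) → P := fun x =>
    ⟨x.2.1 * nd hK (m := m) x.1.1 * x.2.2, mul_mem (mul_mem (hB (R.Upos_le_B (Aof_le hK _ x.2.1.2)))
      (hn _ (hS _ x.1.2))) (hB x.2.2.2)⟩
  have hf : Function.Bijective f := by
    constructor
    · rintro ⟨⟨d, hd⟩, ⟨a, ha⟩, ⟨b, hb⟩⟩ ⟨⟨d', hd'⟩, ⟨a', ha'⟩, ⟨b', hb'⟩⟩ e
      have e' : a * nd hK (m := m) d * b = a' * nd hK (m := m) d' * b' := congrArg Subtype.val e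
      obtain ⟨k, hk, ek⟩ := exists_H_of_doubleCoset (l := wd d) (l' := wd d') (R.Upos_le_B (Aof_le hK _ ha)) hb
        (R.Upos_le_B (Aof_le hK _ ha')) hb' e'
      obtain rfl := nd_sep hK hk ek
      have h1 : (nd hK (m := m) d')⁻¹ * (a'⁻¹ * a) * nd hK (m := m) d' ∈ R.B ⊓ R.Vneg := by
        refine Subgroup.mem_inf.2 ⟨?_, conj_Aof hK (mul_mem (inv_mem ha') ha)⟩
        rw [show (nd hK (m := m) d')⁻¹ * (a'⁻¹ * a) * nd hK (m := m) d' =
          (nd hK (m := m) d')⁻¹ * a'⁻¹ * (a * nd hK (m := m) d' * b) * b⁻¹ by group, e']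
        rw [show (nd hK (m := m) d')⁻¹ * a'⁻¹ * (a' * nd hK (m := m) d' * b') * b⁻¹ = b' * b⁻¹ by group]
        exact mul_mem hb' (inv_mem hb)
      rw [show R.B ⊓ R.Vneg = ⊥ from R.B_inf_V, Subgroup.mem_bot] at h1
      have h2 : a'⁻¹ * a = 1 :=
        calc a'⁻¹ * a = nd hK (m := m) d' * ((nd hK (m := m) d')⁻¹ * (a'⁻¹ * a) * nd hK (m := m) d') *
              (nd hK (m := m) d')⁻¹ := by group
          _ = 1 := by rw [h1]; group
      obtain rfl := (inv_mul_eq_one.1 h2).symm
      obtain rfl := mul_left_cancel e'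
      rfl
    · rintro ⟨g, hg⟩
      obtain ⟨hg1, hg2⟩ := Subgroup.mem_inf.1 hg
      obtain ⟨b, hb, l, b', hb', e⟩ := exists_bruhat hg2
      rw [nw'_eq_nd hK] at e
      set d := (l.map gen).prod
      have hd : d ∈ S := by
        have h1 : nd hK (m := m) d ∈ stab K ρ := by
          rw [show nd hK (m := m) d = b⁻¹ * g * b'⁻¹ by rw [e]; group]
          exact mul_mem (mul_mem (inv_mem (hB hb).1) hg1) (inv_mem (hB hb').1)
        simpa [S] using eq_of_nd_mem hK hρ h1
      obtain ⟨u, hu, h, hh, rfl⟩ := R.exists_B hb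
      obtain ⟨a, ha, c, hc, rfl⟩ := exists_cell_split hK d hu
      refine ⟨⟨⟨d, hd⟩, ⟨a, ha⟩, ⟨(nd hK (m := m) d)⁻¹ * c * nd hK (m := m) d *
        ((nd hK (m := m) d)⁻¹ * h * nd hK (m := m) d) * b', ?_⟩⟩, Subtype.ext ?_⟩
      · exact mul_mem (mul_mem (R.Upos_le_B hc) (R.H_le_B (R.nw_conj_H' _ hh))) hb'
      · show a * nd hK (m := m) d * _ = g
        rw [e]; group
  rw [← Nat.card_eq_of_bijective f hf, Nat.card_sigma]
  simp only [Nat.card_prod]
  rw [Finset.sum_coe_sort S fun d => Nat.card ↥(Aof (K := K) (m := m) d) * Nat.card ↥R.B,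
    Finset.sum_pair (inv_gen_len ρ.i).2.2.2.symm, card_B' hK, Aof, Aof,
    card_seg_fix hK _ _ (inv_spec _).2.1 (inv_spec _).1, card_seg_fix hK _ _ (inv_spec _).2.1 (inv_spec _).1,
    (inv_gen_len ρ.i).1, (inv_gen_len ρ.i).2.2.1, pow_zero]
  ring

/-- Elements commuting with a representative have order dividing the order of the stabiliser. -/
theorem orderOf_dvd {ρ : Rep} (hρ : Valid ρ) {g : GL chevF4.Idx K} (hg : g ∈ twistedF4 K (2 ^ m))
    (hc : Commute g (matK K ρ.R)) : orderOf g ∣
    (2 ^ (2 * m + 1)) ^ 12 * (2 ^ (2 * m + 1) - 1) ^ 2 * (1 + (2 ^ (2 * m + 1)) ^ kexp ρ.i) := by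
  have hmem : g ∈ stab K ρ ⊓ (rgdF4' hK (m := m)).G := Subgroup.mem_inf.2
    ⟨⟨maps_of_conj hK hρ hρ hg hc.eq, maps_of_conj hK hρ hρ (inv_mem hg) hc.inv_left.eq⟩, twisted_eq hK ▸ hg⟩
  rw [← card_stab hK hρ, ← Subgroup.orderOf_mk g hmem]
  exact orderOf_dvd_natCard _

omit hK in
theorem card_inT : Fintype.card {a : chevF4.Idx // zRep.inT a} = 31 ∧
    Fintype.card {a : chevF4.Idx // xRep.inT a} = 29 := by decide +kernel

/-- The two representatives are not conjugate in ²F₄(q). -/
theorem not_conj {g : GL chevF4.Idx K} (hg : g ∈ twistedF4 K (2 ^ m)) :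
    g * matK K zR * g⁻¹ ≠ matK K xR' := by
  intro e
  have hmap := maps_of_conj hK (Or.inl rfl : Valid zRep) (Or.inr rfl : Valid xRep) hg
    (by show g * matK K zR = matK K xR' * g; rw [← e]; group)
  let S := {a : chevF4.Idx // zRep.inT a}
  let S' := {a : chevF4.Idx // xRep.inT a}
  let A : Matrix S' S K := fun a b => (g : Matrix chevF4.Idx chevF4.Idx K) a.1 b.1
  have hinj : Function.Injective (Matrix.mulVecLin A) := by
    rw [← LinearMap.ker_eq_bot, Matrix.ker_mulVecLin_eq_bot_iff]
    intro v hv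
    let w : chevF4.Idx → K := fun a => if h : zRep.inT a then v ⟨a, h⟩ else 0
    have hw : (g : Matrix chevF4.Idx chevF4.Idx K) *ᵥ w = 0 := by
      funext row
      by_cases hr : xRep.inT row
      · have h1 := congrFun hv ⟨row, hr⟩
        show ∑ b, (g : Matrix chevF4.Idx chevF4.Idx K) row b * w b = 0
        rw [← Finset.sum_filter_of_ne (p := zRep.inT) (fun b _ hb => by
          by_contra hn; exact hb (by simp [w, hn])),
          Finset.sum_subtype _ (p := zRep.inT) (by simp)]
        refine Eq.trans ?_ h1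
        show (∑ b : S, (g : Matrix chevF4.Idx chevF4.Idx K) row b.1 * w b.1) = ∑ b : S, A ⟨row, hr⟩ b * v b
        exact Finset.sum_congr rfl fun b _ => by simp [w, b.2, A]
      · show ∑ b, (g : Matrix chevF4.Idx chevF4.Idx K) row b * w b = 0
        refine Finset.sum_eq_zero fun b _ => ?_
        by_cases hb : zRep.inT b
        · rw [hmap row b hb hr, zero_mul]
        · simp [w, hb]
    have hw0 : w = 0 := by
      have h1 := congrArg (((g⁻¹ : GL chevF4.Idx K) : Matrix chevF4.Idx chevF4.Idx K) *ᵥ ·) hw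
      simpa [Matrix.mulVec_mulVec, ← Units.val_mul] using h1
    funext a
    have h2 := congrFun hw0 a.1
    simpa [w, a.2] using h2
  have h := LinearMap.finrank_le_finrank_of_injective hinj
  rw [Module.finrank_pi, Module.finrank_pi, card_inT.1, card_inT.2] at h
  omega

end Cfsg.Agent.ReeInvol
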