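/-
The classes of involutions of ²F₄(q) and of the Tits group.

* `classes_twistedF4` : two classes in ²F₄(q);
* `classes_tits`      : two classes in the derived subgroup of ²F₄(2).
-/
import Cfsg.Agent.Lib.ReeInvol.Stab
import Cfsg.Agent.Lib.ReeTwoInvol.TitsComm
import Cfsg.Agent.Lib.Twisted.TitsHom

set_option autoImplicit false
set_option maxRecDepth 100000
set_option linter.unusedSectionVars false
set_option backward.isDefEq.respectTransparency false
set_option maxHeartbeats 2000000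

namespace Cfsg.Agent.ReeInvol

open Cfsg.Lie Cfsg.Lie.ChevalleyDatum Cfsg.Agent.Chev Cfsg.Agent.ChevBN
open Cfsg.Agent.Twisted Cfsg.Agent.Twisted.F4
open Cfsg.Agent.ReeTwoInvol (mat okL eqv eqv_sound tw tgen ph parity ph_eq coe_tw expand)

/-- The words of the commuting elements of odd parity. -/
def oddW (R : List ℕ) : List ℕ :=
  if R = zR then [2] else [0, 1, 0, 2, 2, 2, 3, 2, 2, 0, 1, 0, 2, 0, 1, 0, 2, 2, 2, 3, 2, 2, 0, 1, 0]

/-- The check of the data of a representative. -/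
def repOK (R : List ℕ) : Bool :=
  (okL (R ++ R) && okL [] && eqv (R ++ R) []) && parity (oddW R) &&
    (okL (expand (oddW R) ++ R) && okL (R ++ expand (oddW R)) && eqv (expand (oddW R) ++ R) (R ++ expand (oddW R))) &&
    decide (∃ row col : chevF4.Idx, row ≠ col ∧
      (ReeTwoInvol.ap R (2 ^ ReeUnipotent.code col)).testBit (ReeUnipotent.code row) = true) &&
    decide (∀ r ∈ R, r < 48)

theorem rep_ok : repOK zR = true ∧ repOK xR' = true := by decide +kernel

variable {K : Type*} [Field K] [CharP K 2]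

theorem rep_invol {R : List ℕ} (hR : R = zR ∨ R = xR') :
    matK K R * matK K R = 1 ∧ matK K R ≠ 1 := by
  have h : repOK R = true := by rcases hR with rfl | rfl; exacts [rep_ok.1, rep_ok.2]
  simp only [repOK, Bool.and_eq_true, decide_eq_true_eq] at h
  obtain ⟨⟨⟨⟨h1, -⟩, -⟩, row, col, hne, hb⟩, hlt⟩ := h
  refine ⟨?_, fun e => ?_⟩
  · rw [← matK_append]
    exact matK_congr (L' := []) (eqv_sound (by simp only [Bool.and_eq_true]; exact h1))
  · have h2 := matK_entry (K := K) hlt row col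
    rw [e, Units.val_one, Matrix.one_apply_ne hne, ReeTwoInvol.bit, if_pos hb, map_one] at h2
    exact zero_ne_one h2

theorem orderOf_two_iff {G : Type*} [Group G] {g : G} : orderOf g = 2 ↔ g * g = 1 ∧ g ≠ 1 := by
  rw [orderOf_eq_prime_iff, sq]

variable [Fintype K] {m : ℕ} (hK : Fintype.card K = 2 ^ (2 * m + 1))
include hK

/-- ²F₄(q) has two classes of involutions. -/
theorem classes_twistedF4 :
    (ConjClasses.mk '' {g : ↥(twistedF4 K (2 ^ m)) | orderOf g = 2}).ncard = 2 := by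
  let z : ↥(twistedF4 K (2 ^ m)) := ⟨matK K zR, zR_mem hK⟩
  let x : ↥(twistedF4 K (2 ^ m)) := ⟨matK K xR', xR'_mem hK⟩
  have hz : orderOf z = 2 := orderOf_two_iff.2
    ⟨Subtype.ext (rep_invol (Or.inl rfl)).1, fun e => (rep_invol (K := K) (Or.inl rfl)).2 (congrArg Subtype.val e)⟩
  have hx : orderOf x = 2 := orderOf_two_iff.2
    ⟨Subtype.ext (rep_invol (Or.inr rfl)).1, fun e => (rep_invol (K := K) (Or.inr rfl)).2 (congrArg Subtype.val e)⟩
  have e : ConjClasses.mk '' {g : ↥(twistedF4 K (2 ^ m)) | orderOf g = 2} =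
      {ConjClasses.mk z, ConjClasses.mk x} := by
    refine Set.Subset.antisymm ?_ ?_
    · rintro _ ⟨g, hg, rfl⟩
      obtain ⟨hgg, hg1⟩ := orderOf_two_iff.1 hg
      obtain ⟨c, hc, R, hR, e⟩ := exists_conj_rep hK g.2 (congrArg Subtype.val hgg)
        (fun e => hg1 (Subtype.ext e))
      rcases hR with rfl | rfl
      · exact Or.inl (ConjClasses.mk_eq_mk_iff_isConj.2 (isConj_iff.2 ⟨⟨c, hc⟩, Subtype.ext e⟩))
      · exact Or.inr (Set.mem_singleton_iff.2
          (ConjClasses.mk_eq_mk_iff_isConj.2 (isConj_iff.2 ⟨⟨c, hc⟩, Subtype.ext e⟩)))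
    · rintro _ (rfl | rfl)
      exacts [⟨z, hz, rfl⟩, ⟨x, hx, rfl⟩]
  rw [e, Set.ncard_pair]
  intro h
  obtain ⟨c, hc⟩ := isConj_iff.1 (ConjClasses.mk_eq_mk_iff_isConj.1 h)
  exact not_conj hK c.2 (congrArg Subtype.val hc)

omit hK

theorem card_two : Fintype.card (ZMod 2) = 2 ^ (2 * 0 + 1) := by simp

/-- An element of odd parity is outside the derived subgroup. -/
theorem tw_odd {w : List ℕ} (hw : parity w = true) : tw w ∉ commutator ↥ReeTwoInvol.T := by
  rw [← Abelianization.ker_of, MonoidHom.mem_ker]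
  intro h
  have h1 : ph w = 1 := h
  rw [ph_eq, if_pos hw] at h1
  have h2 : tgen 2 ∈ commutator ↥ReeTwoInvol.T := by
    rw [← Abelianization.ker_of, MonoidHom.mem_ker]
    simpa [ph, tw] using h1
  exact Twisted.Tits.chi_gT_two (Abelianization.commutator_subset_ker Twisted.Tits.chi h2)

section sub

variable (C : Subgroup ↥(twistedF4 K (2 ^ m)))

include hK in
/-- A subgroup of index two containing all involutions, with centralisers of involutions not inside it,
has two classes of involutions. -/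
theorem classes_sub (hC : C.index = 2) (hinv : ∀ g : ↥(twistedF4 K (2 ^ m)), g * g = 1 → g ∈ C)
    (hodd : ∀ R : List ℕ, R = zR ∨ R = xR' → ∃ e : ↥(twistedF4 K (2 ^ m)), e ∉ C ∧
      (e : GL chevF4.Idx K) * matK K R = matK K R * e) :
    (ConjClasses.mk '' {g : ↥C | orderOf g = 2}).ncard = 2 := by
  let z : ↥C := ⟨⟨matK K zR, zR_mem hK⟩, hinv _ (Subtype.ext (rep_invol (Or.inl rfl)).1)⟩
  let x : ↥C := ⟨⟨matK K xR', xR'_mem hK⟩, hinv _ (Subtype.ext (rep_invol (Or.inr rfl)).1)⟩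
  have hz : orderOf z = 2 := orderOf_two_iff.2 ⟨Subtype.ext (Subtype.ext (rep_invol (Or.inl rfl)).1),
    fun e => (rep_invol (K := K) (Or.inl rfl)).2 (congrArg (fun a : ↥C => a.1.1) e)⟩
  have hx : orderOf x = 2 := orderOf_two_iff.2 ⟨Subtype.ext (Subtype.ext (rep_invol (Or.inr rfl)).1),
    fun e => (rep_invol (K := K) (Or.inr rfl)).2 (congrArg (fun a : ↥C => a.1.1) e)⟩
  have key : ∀ g : ↥C, orderOf g = 2 → IsConj g z ∨ IsConj g x := by
    intro g hg
    obtain ⟨hgg, hg1⟩ := orderOf_two_iff.1 hg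
    obtain ⟨c, hc, R, hR, e⟩ := exists_conj_rep hK g.1.2
      (congrArg (fun a : ↥C => a.1.1) hgg) (fun e => hg1 (Subtype.ext (Subtype.ext e)))
    obtain ⟨c', e'⟩ : ∃ c' : ↥C, (c'.1.1 : GL chevF4.Idx K) * g.1.1 * c'.1.1⁻¹ = matK K R := by
      by_cases hcc : (⟨c, hc⟩ : ↥(twistedF4 K (2 ^ m))) ∈ C
      · exact ⟨⟨_, hcc⟩, e⟩
      · obtain ⟨o, ho, hcom⟩ := hodd R hR
        refine ⟨⟨o * ⟨c, hc⟩, (Subgroup.mul_mem_iff_of_index_two hC).2 (iff_of_false ho hcc)⟩, ?_⟩
        show o.1 * c * g.1.1 * (o.1 * c)⁻¹ = matK K R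
        calc o.1 * c * g.1.1 * (o.1 * c)⁻¹ = o.1 * (c * g.1.1 * c⁻¹) * o.1⁻¹ := by group
          _ = _ := by rw [e, hcom, mul_inv_cancel_right]
    rcases hR with rfl | rfl
    · exact Or.inl (isConj_iff.2 ⟨c', Subtype.ext (Subtype.ext e')⟩)
    · exact Or.inr (isConj_iff.2 ⟨c', Subtype.ext (Subtype.ext e')⟩)
  have e : ConjClasses.mk '' {g : ↥C | orderOf g = 2} = {ConjClasses.mk z, ConjClasses.mk x} := by
    refine Set.Subset.antisymm ?_ ?_
    · rintro _ ⟨g, hg, rfl⟩
      exact (key g hg).imp ConjClasses.mk_eq_mk_iff_isConj.2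
        fun h => Set.mem_singleton_iff.2 (ConjClasses.mk_eq_mk_iff_isConj.2 h)
    · rintro _ (rfl | rfl)
      exacts [⟨z, hz, rfl⟩, ⟨x, hx, rfl⟩]
  rw [e, Set.ncard_pair]
  intro h
  obtain ⟨c, hc⟩ := isConj_iff.1 (ConjClasses.mk_eq_mk_iff_isConj.1 h)
  exact not_conj hK c.1.2 (congrArg (fun a : ↥C => a.1.1) hc)

end sub

theorem matK_two (R : List ℕ) : matK (ZMod 2) R = mat R := rfl

/-- The Tits group has two classes of involutions. -/
theorem classes_tits : (ConjClasses.mk '' {g : TitsGroup | orderOf g = 2}).ncard = 2 := by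
  refine classes_sub (K := ZMod 2) (m := 0) card_two (commutator ↥ReeTwoInvol.T)
    Twisted.Tits.index_commutator ReeTwoInvol.involution_mem_commutator fun R hR => ?_
  have h : repOK R = true := by rcases hR with rfl | rfl; exacts [rep_ok.1, rep_ok.2]
  simp only [repOK, Bool.and_eq_true, decide_eq_true_eq] at h
  obtain ⟨⟨⟨⟨-, hpar⟩, hcom⟩, -⟩, -⟩ := h
  have hcom' := eqv_sound (by simp only [Bool.and_eq_true]; exact hcom)
  rw [ReeTwoInvol.mat_append, ReeTwoInvol.mat_append, ← coe_tw] at hcom'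
  exact ⟨tw (oddW R), tw_odd hpar, by rw [matK_two]; exact hcom'⟩

end Cfsg.Agent.ReeInvol
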